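import Cfsg.Agent.H32.ThRep.P19.Data

/-!
Kernel checks of the chain certificate for the prime 19.
-/

set_option autoImplicit false
set_option Elab.async false
set_option maxRecDepth 100000

namespace Cfsg.Agent.H32.ThRep.P19

theorem base_ok : cert.baseOK = true := by decide +kernel

theorem word_ok0 : cert.wordOK 0 = true := by decide +kernel

theorem rel_ok0 : cert.relOK 0 = true := by decide +kernel

theorem pow_ok0 : cert.powOK 0 = true := by decide +kernel

theorem sep_ok0 : cert.sepOK 0 = true := by decide +kernel

theorem ker_ok : cert.kerOK = true := by decide +kernel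

theorem dvd_range : 19 ^ 1 ∣ Nat.card rep248.range :=
  cert.dvd_range (show Nat.Prime 19 by norm_num) base_ok
    (fun i => match i with
      | 0 => word_ok0)
    (fun i => match i with
      | 0 => rel_ok0)
    (fun i => match i with
      | 0 => pow_ok0)
    (fun i => match i with
      | 0 => sep_ok0)
    ker_ok

end Cfsg.Agent.H32.ThRep.P19
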